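import Cfsg.Agent.H635.PQ.Tools
import Cfsg.Agent.H642.PQ.Full
import Cfsg.Agent.Blocks.FullDefect

/-!
# S4884, sporadic rows: tools (helper635)

`RowQ q S` : the principal 2-block and the principal `q`-block have a common nontrivial character of degree prime
to `2 q`.

* `RowQ.of_exact` : `q ∥ |S|` and all characters of odd degree are in `B0 2 S`;
* `RowQ.of_mem`, `RowQ.of_nb`, `RowQ.of_real` : from a degree.
-/

set_option autoImplicit false
set_option linter.unusedSectionVars false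
set_option linter.unusedVariables false

open Cfsg

namespace Cfsg.Agent.H635.SB

open Cfsg.Agent.H317.PQ Cfsg.Agent.H709.PB Cfsg.Agent.H766.PQ Cfsg.Agent.Blocks.Basic
open Cfsg.Agent.Blocks Cfsg.Agent.Blocks.Local Cfsg.Agent.H635.PQ
open scoped ComplexConjugate

universe u v

/-- a common nontrivial character of degree prime to `2 q` -/
def RowQ (q : ℕ) (G : Type u) [Group G] : Prop :=
  ∃ χ : IrrCharacter G, χ ∈ B0 2 G ∧ χ ∈ B0 q G ∧ ¬ 2 ∣ charDegree (χ : G → ℂ) ∧ ¬ q ∣ charDegree (χ : G → ℂ) ∧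
    (χ : G → ℂ) ≠ fun _ => 1

variable {G : Type u} [Group G] [Finite G] {q : ℕ}

theorem ne_one_of_deg {χ : IrrCharacter G} (h : charDegree (χ : G → ℂ) ≠ 1) : (χ : G → ℂ) ≠ fun _ => 1 := by
  intro h1
  apply h
  rw [h1]
  exact charDegree_of_eq (by simp)

theorem RowQ.of_mem {d : ℕ} {χ : IrrCharacter G} (hd : charDegree (χ : G → ℂ) = d) (h2 : χ ∈ B0 2 G) (hq : χ ∈ B0 q G)
    (hd2 : ¬ 2 ∣ d) (hdq : ¬ q ∣ d) (hd1 : d ≠ 1) : RowQ q G :=
  ⟨χ, h2, hq, by rwa [hd], by rwa [hd], ne_one_of_deg (by rwa [hd])⟩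

/-- all characters of odd degree in `B0 2 G`, all characters of degree prime to `q` in `B0 q G` -/
theorem RowQ.of_nb {d : ℕ} (hq : q.Prime) (h2 : NB 2 1 G) (h : NB q 1 G)
    (hd : ∃ χ : IrrCharacter G, charDegree (χ : G → ℂ) = d) (hd2 : ¬ 2 ∣ d) (hdq : ¬ q ∣ d) (hd1 : d ≠ 1) : RowQ q G := by
  obtain ⟨χ, hχ⟩ := hd
  exact RowQ.of_mem hχ (mem_of_nb Nat.prime_two h2 hχ (by rwa [pow_one])) (mem_of_nb hq h hχ (by rwa [pow_one])) hd2 hdq hd1

/-- a real character of odd degree -/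
theorem real_mem {χ : IrrCharacter G} (hr : ∀ g, ((χ : G → ℂ) g).im = 0) (hd : ¬ 2 ∣ charDegree (χ : G → ℂ)) :
    χ ∈ B0 2 G := fun M hM => (S4483.result M hM).1 χ hr (by rwa [← Nat.not_even_iff_odd, even_iff_two_dvd])

theorem RowQ.of_real {d : ℕ} (hq : q.Prime) (h : NB q 1 G)
    (hd : ∃ χ : IrrCharacter G, charDegree (χ : G → ℂ) = d ∧ ∀ g, ((χ : G → ℂ) g).im = 0) (hd2 : ¬ 2 ∣ d) (hdq : ¬ q ∣ d)
    (hd1 : d ≠ 1) : RowQ q G := by
  obtain ⟨χ, hχ, hr⟩ := hd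
  exact RowQ.of_mem hχ (real_mem hr (by rwa [hχ])) (mem_of_nb hq h hχ (by rwa [pow_one])) hd2 hdq hd1

/-- **T2** : an element `y` of order divisible by `q` at which the characters of `B0 q` of degree divisible by `q` vanish -/
theorem exists_odd_of_singular (hq : q.Prime) {y : G} (hy : q ∣ orderOf y)
    (hv : ∀ χ : IrrCharacter G, χ ∈ B0 q G → ¬ 2 ∣ charDegree (χ : G → ℂ) → q ∣ charDegree (χ : G → ℂ) → (χ : G → ℂ) y = 0) :
    ∃ χ : IrrCharacter G, χ ∈ B0 q G ∧ ¬ 2 ∣ charDegree (χ : G → ℂ) ∧ ¬ q ∣ charDegree (χ : G → ℂ) ∧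
      (χ : G → ℂ) ≠ fun _ => 1 := by
  classical
  have hqF : Fact q.Prime := ⟨hq⟩
  have h2F : Fact (Nat.Prime 2) := ⟨Nat.prime_two⟩
  obtain ⟨M, hM⟩ := ExistsModular.exists_isPModular hq
  obtain ⟨M2, hM2⟩ := ExistsModular.exists_isPModular Nat.prime_two
  have hMp := Local.isPrime_of_isPModular hM
  have hM2p := Local.isPrime_of_isPModular hM2
  have hfin : Finite (IrrCharacter G) := S0909.finite_irr
  have := Fintype.ofFinite (IrrCharacter G)
  by_contra hcon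
  push Not at hcon
  have h1 := Orthogonality.weak_block_orthogonality hM (B0 q G) (fun g => by
    rw [B0_eq hq hM]
    exact Osima.memLocalRing_blockCoeff hM PrincipalSection.isPBlock_principalBlock g)
    (x := (1 : G)) (y := y) (by rw [orderOf_one]; exact hq.one_lt.not_ge ∘ Nat.le_of_dvd one_pos) hy
  rw [Orthogonality.finsum_mem_eq_sum_filter] at h1
  let one : IrrCharacter G := ⟨_, isIrrCharacter_one⟩
  have hone : one ∈ Finset.univ.filter (fun χ : IrrCharacter G => χ ∈ B0 q G) := by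
    rw [Finset.mem_filter]
    exact ⟨Finset.mem_univ _, triv_mem hq⟩
  rw [← Finset.add_sum_erase _ _ hone] at h1
  have h2 : MemLocalIdeal M2 (∑ χ ∈ (Finset.univ.filter (fun χ : IrrCharacter G => χ ∈ B0 q G)).erase one,
      (χ : G → ℂ) 1 * conj ((χ : G → ℂ) y)) := by
    refine memLocalIdeal_sum fun χ hχ => ?_
    obtain ⟨hne, hmem⟩ := Finset.mem_erase.1 hχ
    have hmem' := (Finset.mem_filter.1 hmem).2
    by_cases hd2 : 2 ∣ charDegree (χ : G → ℂ)
    · rw [irr_one_eq_charDegree χ.2]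
      refine memLocalIdeal_mul_right ((memLocalIdeal_natCast_iff hM2 _).2 hd2) ?_
      have h3 : conj ((χ : G → ℂ) y) = (χ : G → ℂ) y⁻¹ := by
        rw [Characters.Core.isCharacter_apply_inv (Characters.Core.isIrr_isCharacter χ.2)]
      rw [h3]
      exact FullDefect.memLocalRing_irr χ y⁻¹
    · by_cases hdq : q ∣ charDegree (χ : G → ℂ)
      · rw [hv χ hmem' hd2 hdq, map_zero, mul_zero]
        exact memLocalIdeal_zero
      · exact absurd (Subtype.ext (hcon χ hmem' hd2 hdq)) hne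
  have h3 : ((one : IrrCharacter G) : G → ℂ) 1 * conj (((one : IrrCharacter G) : G → ℂ) y) = 1 := by
    show (1 : ℂ) * conj (1 : ℂ) = 1
    simp
  rw [h3] at h1
  have h4 : MemLocalIdeal M2 (1 : ℂ) := by
    have h5 := memLocalIdeal_neg h2
    rw [← eq_neg_iff_add_eq_zero.2 h1] at h5
    exact h5
  have h6 := (memLocalIdeal_natCast_iff hM2 1).1 (by simpa using h4)
  norm_num at h6

/-- **`q ∥ |G|`.** -/
theorem exists_odd_of_exact (hq : q.Prime) (hG : q ∣ Nat.card G) (hG' : ¬ q ^ 2 ∣ Nat.card G) :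
    ∃ χ : IrrCharacter G, χ ∈ B0 q G ∧ ¬ 2 ∣ charDegree (χ : G → ℂ) ∧ ¬ q ∣ charDegree (χ : G → ℂ) ∧
      (χ : G → ℂ) ≠ fun _ => 1 := by
  have hqF : Fact q.Prime := ⟨hq⟩
  obtain ⟨y, hy⟩ := exists_prime_orderOf_dvd_card' q hG
  refine exists_odd_of_singular hq (y := y) (by rw [hy]) fun χ hχ _ hd => ?_
  exact absurd hχ (not_mem_dz (b := 1) hq rfl (Blocks.Basic.charDegree_pos χ.2).ne' one_ne_zero (by rwa [pow_one])
    (by rwa [pow_one]) hG')

theorem RowQ.of_exact (hq : q.Prime) (h2 : NB 2 1 G) (hG : q ∣ Nat.card G) (hG' : ¬ q ^ 2 ∣ Nat.card G) : RowQ q G := by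
  obtain ⟨χ, h1, h3, h4, h5⟩ := exists_odd_of_exact hq hG hG'
  exact ⟨χ, mem_of_nb Nat.prime_two h2 rfl (by rwa [pow_one]), h1, h3, h4, h5⟩

theorem RowQ.of_equiv {H : Type v} [Group H] (e : G ≃* H) (h : RowQ q G) : RowQ q H := by
  obtain ⟨χ, h1, h2, h3, h4, h5⟩ := h
  have hd : charDegree ((H649.irrMap e χ : IrrCharacter H) : H → ℂ) = charDegree (χ : G → ℂ) := by
    have h6 : ((H649.irrMap e χ : IrrCharacter H) : H → ℂ) 1 = (χ : G → ℂ) 1 := by
      change (χ : G → ℂ) (e.symm 1) = _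
      rw [map_one]
    rw [irr_one_eq_charDegree χ.2] at h6
    exact charDegree_of_eq h6
  refine ⟨H649.irrMap e χ, (H358.A3.B0_irrMap e χ).2 h1, (H358.A3.B0_irrMap e χ).2 h2, by rwa [hd], by rwa [hd], ?_⟩
  intro h6
  apply h5
  funext x
  have h7 := congrFun h6 (e x)
  change (χ : G → ℂ) (e.symm (e x)) = 1 at h7
  rwa [e.symm_apply_apply] at h7

end Cfsg.Agent.H635.SB
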