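import Cfsg.Agent.H635.SB.Sq
import Cfsg.Agent.H513.PQ.HS
import Cfsg.Agent.H513.PQ.McL
import Cfsg.Agent.H904.El.McL
import Cfsg.Agent.H956.K4.McLDeg

/-!
# S4884: the rows of `HS`, `McL` (helper635)
-/

set_option autoImplicit false
set_option linter.unusedSectionVars false

open Cfsg Subgroup

namespace Cfsg.Agent.H635.SB.HSMcL

open Cfsg.Agent.H317.PQ Cfsg.Agent.H709.PB Cfsg.Agent.H635.SB Cfsg.Agent.Blocks.Basic Cfsg.Agent.H513.PQ

universe u

/-! ### `HS` -/

theorem row_hs {q : ℕ} (hq : q.Prime) (hq2 : q ≠ 2) {S : Type u} [Group S] (h : Spor.IsoHS S)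
    (hd : q ∣ Nat.card S) : RowQ q S := by
  have hc : Nat.card S = 44352000 := HS.card_s h
  have hfin : Finite S := HS.finite_s h
  rw [hc] at hd
  rcases HS.prime_cases hq hd with rfl | rfl | rfl | rfl | rfl
  · exact absurd rfl hq2
  · exact RowQ.of_sq (by norm_num) (HS.nb_two h) (by rw [hc]; norm_num) (by rw [hc]; norm_num)
  · obtain ⟨D, ψ, R⟩ := Cfsg.Agent.H904.HSCent.exists_rep h
    obtain ⟨a, ha, -, -⟩ := HS.transport R HS.exists_77
    exact RowQ.of_nb (by norm_num) (HS.nb_two h) (HS.nb_five h) ⟨a, ha⟩ (by norm_num) (by norm_num) (by norm_num)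
  · exact RowQ.of_sq (by norm_num) (HS.nb_two h) (by rw [hc]; norm_num) (by rw [hc]; norm_num)
  · exact RowQ.of_sq (by norm_num) (HS.nb_two h) (by rw [hc]; norm_num) (by rw [hc]; norm_num)

/-! ### `McL` -/

theorem card_two {y : ↥Spor.McL} (hy : orderOf y = 2) : Nat.card (centralizer ({y} : Set ↥Spor.McL)) = 40320 := by
  obtain ⟨hcl, t, ht, hC, ⟨e⟩, -⟩ := Cfsg.Agent.S2132.result
  have : Finite ↥Spor.McL := McL.finite_m ⟨MulEquiv.refl _⟩
  rw [← J2Type.Cent5.card_centralizer_of_isConj (hcl t y ht hy),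
    Subgroup.card_eq_card_quotient_mul_card_subgroup (center ↥(centralizer ({t} : Set ↥Spor.McL))), hC,
    Nat.card_congr e.toEquiv]
  have h3 : 2 * Nat.card (alternatingGroup (Fin 8)) = 40320 := by
    rw [two_mul_nat_card_alternatingGroup, Nat.card_perm, Nat.card_eq_fintype_card, Fintype.card_fin]
    decide
  omega

theorem nb_five : NB 5 1 ↥Spor.McL := by
  have : Fact (Nat.Prime 5) := ⟨by norm_num⟩
  have h : Spor.IsoMcL ↥Spor.McL := ⟨MulEquiv.refl _⟩
  have hc := McL.card_m h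
  have : Finite ↥Spor.McL := McL.finite_m h
  obtain ⟨θ, R⟩ := Cfsg.Agent.H904.McLCent.exists_rep h
  obtain ⟨b, hb, hb50⟩ := Cfsg.Agent.H904.El.McL.exists_small R
  have hb25 := Cfsg.Agent.BpSpor.sq_dvd_centralizer (by norm_num) hb (by rw [hc]; norm_num)
  refine nb_of_cent (a := 3) (by rw [hc]; norm_num) (by rw [hc]; norm_num) ?_
  intro y hy h5 h125 hall
  have hd : orderOf y ∣ 898128000 := by rw [← hc]; exact orderOf_dvd_natCard y
  have h1 := hall b hb
  have key : ∀ r : ℕ, Nat.Coprime r (5 ^ 2) → 2 < r → orderOf y = r → False := by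
    intro r hr h3 h'
    rw [h'] at h1
    have h2 : r * 5 ^ 2 ∣ Nat.card (centralizer ({b} : Set ↥Spor.McL)) :=
      Nat.Coprime.mul_dvd_of_dvd_of_dvd hr h1 hb25
    have := Nat.le_of_dvd Nat.card_pos h2
    omega
  rcases McL.prime_cases hy hd with h' | h' | h' | h' | h'
  · rw [card_two h'] at h125
    norm_num at h125
  · exact key 3 (by norm_num) (by norm_num) h'
  · exact h5 h'
  · exact key 7 (by norm_num) (by norm_num) h'
  · exact key 11 (by norm_num) (by norm_num) h'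

theorem exists_9625 {S : Type u} [Group S] (h : Spor.IsoMcL S) :
    ∃ χ : IrrCharacter S, charDegree (χ : S → ℂ) = 9625 := by
  obtain ⟨θ, R⟩ := Cfsg.Agent.H904.McLCent.exists_rep h
  let f : S ≃* Cfsg.Agent.McLType.Gens.K0 := (MonoidHom.ofInjective R.inj).trans (MulEquiv.subgroupCongr R.range)
  obtain ⟨χ, hχ, -⟩ := H956.K4.McLDeg.deg_9625
  exact H593.IMSpor.exists_degree_of_equiv f ⟨χ, hχ⟩

theorem row_mcl {q : ℕ} (hq : q.Prime) (hq2 : q ≠ 2) {S : Type u} [Group S] (h : Spor.IsoMcL S)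
    (hd : q ∣ Nat.card S) : RowQ q S := by
  have hc0 : Nat.card S = 898128000 := McL.card_m h
  obtain ⟨e⟩ := h
  have h : Spor.IsoMcL ↥Spor.McL := ⟨MulEquiv.refl _⟩
  have hc := McL.card_m h
  have hfin : Finite ↥Spor.McL := McL.finite_m h
  refine RowQ.of_equiv e.symm ?_
  have n2 : NB 2 1 ↥Spor.McL := McL.nb_two.mono (by norm_num)
  rw [hc0] at hd
  rcases McL.prime_cases hq hd with rfl | rfl | rfl | rfl | rfl
  · exact absurd rfl hq2
  · exact RowQ.of_nb (by norm_num) n2 (McL.nb_three h) (exists_9625 h) (by norm_num) (by norm_num) (by norm_num)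
  · exact RowQ.of_nb (by norm_num) n2 nb_five (H174.Two.McL.mcl_deg h).2.2 (by norm_num) (by norm_num) (by norm_num)
  · exact RowQ.of_sq (by norm_num) n2 (by rw [hc]; norm_num) (by rw [hc]; norm_num)
  · exact RowQ.of_sq (by norm_num) n2 (by rw [hc]; norm_num) (by rw [hc]; norm_num)

end Cfsg.Agent.H635.SB.HSMcL
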